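import Groth.Prelude.Def_ClSub2
import Groth.Prelude.Def_BlowUp2
import Groth.Agent.Lib.InvExt.Gen
import Groth.Agent.Lib.BlowUp.EffCartier

/-! # Sections of the ideal module; invertibility and effective Cartier ideals -/

set_option autoImplicit false
universe u
open CategoryTheory CategoryTheory.Limits AlgebraicGeometry TopologicalSpace Opposite

namespace GrothLib.IdealModSec

open GrothLib.InvExt

variable {X : Scheme.{u}}

theorem app_kernel {M N : X.Modules} (φ : M ⟶ N) (W : X.Opens) :
    Function.Injective ((kernel.ι φ).app W) ∧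
      ∀ m : Γ(M, W), φ.app W m = 0 → ∃ k, (kernel.ι φ).app W k = m := by
  let G := Scheme.Modules.toPresheaf X ⋙ (evaluation _ _).obj (op W)
  haveI : PreservesLimits ((evaluation (Opens X)ᵒᵖ Ab.{u}).obj (op W)) := inferInstance
  haveI : PreservesLimits G := comp_preservesLimits _ _
  haveI : PreservesLimitsOfSize.{0, 0} G := preservesLimitsOfSize_shrink.{0, u, 0, u} _
  haveI : G.PreservesZeroMorphisms := ⟨fun A B => rfl⟩
  have hl := KernelFork.mapIsLimit _ (kernelIsKernel φ) G
  have hm : Mono (G.map (kernel.ι φ)) := by infer_instance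
  have he := ShortComplex.exact_of_f_is_kernel (ShortComplex.mk (G.map (kernel.ι φ)) (G.map φ) (by rw [← G.map_comp, kernel.condition, G.map_zero])) hl
  rw [ShortComplex.ab_exact_iff] at he
  exact ⟨(AddCommGrpCat.mono_iff_injective _).1 hm, fun m hm' => he m hm'⟩

/-- The value in `O_X` of a section of the ideal module. -/
noncomputable def val (I : X.IdealSheafData) (W : X.Opens) (k : Γ(ClSub.idealMod I, W)) : Γ(X, W) :=
  (ClSub.idealModι I).app W k

theorem val_injective (I : X.IdealSheafData) (W : X.Opens) : Function.Injective (val I W) :=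
  (app_kernel (ClSub.toSubscheme I) W).1

theorem val_zero (I : X.IdealSheafData) (W : X.Opens) : val I W 0 = 0 :=
  map_zero ((ClSub.idealModι I).app W).hom

theorem val_smul (I : X.IdealSheafData) (W : X.Opens) (c : Γ(X, W)) (k : Γ(ClSub.idealMod I, W)) :
    val I W (c • k) = c * val I W k :=
  Scheme.Modules.Hom.app_smul (ClSub.idealModι I) c k

theorem val_mres (I : X.IdealSheafData) {V W : X.Opens} (h : W ≤ V) (k : Γ(ClSub.idealMod I, V)) :
    val I W (mres (ClSub.idealMod I) h k) = fres X h (val I V k) :=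
  ConcreteCategory.congr_hom ((ClSub.idealModι I).mapPresheaf.naturality (homOfLE h).op) k

theorem app_val (I : X.IdealSheafData) (W : X.Opens) (k : Γ(ClSub.idealMod I, W)) :
    I.subschemeι.app W (val I W k) = 0 := by
  show (ClSub.idealModι I ≫ ClSub.toSubscheme I).app W k = 0
  rw [show ClSub.idealModι I ≫ ClSub.toSubscheme I = 0 from kernel.condition _]
  rfl

theorem val_mem (I : X.IdealSheafData) (U : X.affineOpens) (k : Γ(ClSub.idealMod I, U.1)) :
    val I U.1 k ∈ I.ideal U := by
  rw [← I.ker_subschemeι_app U]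
  exact app_val I U.1 k

theorem exists_val_eq (I : X.IdealSheafData) (U : X.affineOpens) {a : Γ(X, U.1)} (ha : a ∈ I.ideal U) :
    ∃ k : Γ(ClSub.idealMod I, U.1), val I U.1 k = a := by
  rw [← I.ker_subschemeι_app U] at ha
  exact (app_kernel (ClSub.toSubscheme I) U.1).2 a ha

/-- A section which is a basis on every affine open below `V` generates. -/
theorem isGen_of_affine {M : X.Modules} {V : X.Opens} {e : Γ(M, V)}
    (h : ∀ (T : X.affineOpens) (hT : T.1 ≤ V), Function.Bijective fun c : Γ(X, T.1) => c • mres M hT e) :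
    IsGen M V e := by
  have hinj : ∀ (W : X.Opens) (hW : W ≤ V) (c d : Γ(X, W)), c • mres M hW e = d • mres M hW e → c = d := by
    intro W hW c d hcd
    refine X.sheaf.eq_of_locally_eq' (fun T : {T : X.affineOpens // T.1 ≤ W} => T.1.1) W
      (fun T => homOfLE T.2) ?_ c d fun T => (h T.1 (T.2.trans hW)).1 ?_
    · intro x hx
      obtain ⟨T, hxT, hT⟩ := GrothLib.BlowUp.exists_affine_mem_le hx
      exact Opens.mem_iSup.mpr ⟨⟨T, hT⟩, hxT⟩
    · have := congrArg (mres M T.2) hcd
      simp only [mres_smul, mres_mres] at this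
      exact this
  intro W hW
  refine ⟨fun c d => hinj W hW c d, fun m => ?_⟩
  let ι := {T : X.affineOpens // T.1 ≤ W}
  choose c hc using fun T : ι => (h T.1 (T.2.trans hW)).2 (mres M T.2 m)
  have hcov : W ≤ ⨆ T : ι, T.1.1 := fun x hx => by
    obtain ⟨T, hxT, hT⟩ := GrothLib.BlowUp.exists_affine_mem_le hx
    exact Opens.mem_iSup.mpr ⟨⟨T, hT⟩, hxT⟩
  obtain ⟨g, hg, -⟩ := X.sheaf.existsUnique_gluing' (fun T : ι => T.1.1) W (fun T => homOfLE T.2) hcov c
    (by
      intro i j
      refine hinj _ (inf_le_left.trans (i.2.trans hW)) _ _ ?_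
      have hi := congrArg (mres M (inf_le_left : i.1.1 ⊓ j.1.1 ≤ i.1.1)) (hc i)
      have hj := congrArg (mres M (inf_le_right : i.1.1 ⊓ j.1.1 ≤ j.1.1)) (hc j)
      simp only [mres_smul, mres_mres] at hi hj
      exact hi.trans hj.symm)
  let g' : Γ(X, W) := g
  refine ⟨g', TopCat.Sheaf.eq_of_locally_eq' ⟨M.presheaf, M.isSheaf⟩ (fun T : ι => T.1.1) W
    (fun T => homOfLE T.2) hcov _ _ fun T => ?_⟩
  show mres M T.2 (g' • mres M hW e) = mres M T.2 m
  rw [mres_smul, mres_mres, ← hc T]
  congr 1
  exact hg T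

theorem isGen_of_cartierOn {I : X.IdealSheafData} {U : X.affineOpens} {e : Γ(ClSub.idealMod I, U.1)}
    (hnz : val I U.1 e ∈ nonZeroDivisors Γ(X, U.1)) (he : I.ideal U = Ideal.span {val I U.1 e}) :
    IsGen (ClSub.idealMod I) U.1 e := by
  refine isGen_of_affine fun T hT => ?_
  have hnzT : fres X hT (val I U.1 e) ∈ nonZeroDivisors Γ(X, T.1) :=
    GrothLib.BlowUp.mem_nonZeroDivisors_of_flat _ (GrothLib.BlowUp.flat_res hT) hnz
  have hIT : I.ideal T = Ideal.span {fres X hT (val I U.1 e)} := by
    rw [← I.map_ideal (U := T) (V := U) hT, he, Ideal.map_span, Set.image_singleton]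
    rfl
  constructor
  · intro c d hcd
    have h1 := congrArg (val I T.1) hcd
    simp only [val_smul, val_mres] at h1
    exact (mul_cancel_right_mem_nonZeroDivisors hnzT).1 h1
  · intro m
    obtain ⟨c, hc⟩ := Ideal.mem_span_singleton'.1 (hIT ▸ val_mem I T m)
    refine ⟨c, val_injective I T.1 ?_⟩
    simp only [val_smul, val_mres]
    exact hc

theorem isInvertible_of_isEffCartier {I : X.IdealSheafData} (hI : _root_.BlowUp.IsEffCartierIdeal I) :
    PicF.IsInvertible (ClSub.idealMod I) := by
  refine isInvertible_of_gens fun x => ?_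
  obtain ⟨U, hxU, f, hf, hU⟩ := hI x
  obtain ⟨e, rfl⟩ := exists_val_eq I U (hU ▸ Ideal.mem_span_singleton_self f)
  exact ⟨U.1, e, hxU, isGen_of_cartierOn hf hU⟩

theorem isEffCartier_of_isInvertible {I : X.IdealSheafData} (hI : PicF.IsInvertible (ClSub.idealMod I)) :
    _root_.BlowUp.IsEffCartierIdeal I := by
  intro x
  obtain ⟨V, e, hxV, he⟩ := exists_gen_nhd hI x
  obtain ⟨U, hxU, hUV⟩ := GrothLib.BlowUp.exists_affine_mem_le hxV
  refine ⟨U, hxU, val I U.1 (mres _ hUV e), ?_, le_antisymm (fun a ha => ?_) ?_⟩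
  · rw [mem_nonZeroDivisors_iff_right]
    intro c hc
    refine he.smul_left_injective hUV (val_injective I U.1 ?_)
    rw [val_smul, val_smul, hc, zero_mul]
  · obtain ⟨k, rfl⟩ := exists_val_eq I U ha
    obtain ⟨c, rfl⟩ := he.exists_smul_eq hUV k
    rw [val_smul]
    exact Ideal.mem_span_singleton'.2 ⟨c, rfl⟩
  · rw [Ideal.span_singleton_le_iff_mem]
    exact val_mem I U _

end GrothLib.IdealModSec
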